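import Mathlib.CategoryTheory.Galois.Equivalence
import Mathlib.CategoryTheory.Galois.Prorepresentability
import Mathlib.CategoryTheory.CofilteredSystem
import Mathlib.CategoryTheory.Limits.Constructions.FiniteProductsOfBinaryProducts

universe u v w

open CategoryTheory Limits PreGaloisCategory

namespace Groth.Agent.GalCat83

variable {C : Type u} [Category.{v} C]

/-- Elementwise version of the compatibility of a functor with binary products. -/
lemma prod_ext {F : C ⥤ FintypeCat.{w}} [PreservesLimitsOfShape (Discrete WalkingPair) F]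
    {X Y : C} [HasBinaryProduct X Y] {z z' : F.obj (X ⨯ Y)}
    (h₁ : F.map prod.fst z = F.map prod.fst z') (h₂ : F.map prod.snd z = F.map prod.snd z') :
    z = z' :=
  Concrete.isLimit_ext _ (isLimitOfHasBinaryProductOfPreservesLimit F X Y) z z' fun j ↦ by
    rcases j with ⟨⟨⟩⟩
    · exact h₁
    · exact h₂

lemma exists_prod_lift {F : C ⥤ FintypeCat.{w}} [PreservesLimitsOfShape (Discrete WalkingPair) F]
    {X Y : C} [HasBinaryProduct X Y] (x : F.obj X) (y : F.obj Y) :
    ∃ z : F.obj (X ⨯ Y), F.map prod.fst z = x ∧ F.map prod.snd z = y := by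
  let hl := isLimitOfHasBinaryProductOfPreservesLimit F X Y
  let P : FintypeCat.{w} := FintypeCat.of PUnit
  let s : BinaryFan (F.obj X) (F.obj Y) :=
    BinaryFan.mk (FintypeCat.homMk (fun _ : P ↦ x)) (FintypeCat.homMk (fun _ : P ↦ y))
  refine ⟨hl.lift s PUnit.unit, ?_, ?_⟩
  · exact ConcreteCategory.congr_hom (hl.fac s ⟨WalkingPair.left⟩) PUnit.unit
  · exact ConcreteCategory.congr_hom (hl.fac s ⟨WalkingPair.right⟩) PUnit.unit

lemma subsingleton_of_isTerminal {F : C ⥤ FintypeCat.{w}}
    [PreservesLimitsOfShape (Discrete PEmpty.{1}) F] {T : C} (hT : IsTerminal T) :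
    Subsingleton (F.obj T) where
  allEq a b := by
    let P : FintypeCat.{w} := FintypeCat.of PUnit
    have := (IsTerminal.isTerminalObj F T hT).hom_ext
      (FintypeCat.homMk (fun _ : P ↦ a)) (FintypeCat.homMk (fun _ : P ↦ b))
    exact ConcreteCategory.congr_hom this PUnit.unit

lemma nonempty_of_isTerminal {F : C ⥤ FintypeCat.{w}}
    [PreservesLimitsOfShape (Discrete PEmpty.{1}) F] {T : C} (hT : IsTerminal T) :
    Nonempty (F.obj T) :=
  ⟨(IsTerminal.isTerminalObj F T hT).from (FintypeCat.of PUnit) PUnit.unit⟩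

lemma map_map (F : C ⥤ FintypeCat.{w}) {X Y Z : C} (f : X ⟶ Y) (g : Y ⟶ Z) (x : F.obj X) :
    F.map g (F.map f x) = F.map (f ≫ g) x := by
  rw [F.map_comp, FintypeCat.comp_apply]

lemma map_id_apply (F : C ⥤ FintypeCat.{w}) {X : C} (x : F.obj X) : F.map (𝟙 X) x = x := by
  rw [F.map_id, FintypeCat.id_apply]

lemma coprod_cases (F : C ⥤ FintypeCat.{w}) [PreservesColimitsOfShape (Discrete WalkingPair) F]
    {A B P : C} {a : A ⟶ P} {b : B ⟶ P} (hc : IsColimit (BinaryCofan.mk a b)) (z : F.obj P) :
    (∃ x : F.obj A, F.map a x = z) ∨ ∃ x : F.obj B, F.map b x = z := by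
  obtain ⟨⟨_ | _⟩, x, hx⟩ := FintypeCat.jointly_surjective
    (pair A B ⋙ F) _ (isColimitOfPreserves F hc) z
  · exact Or.inl ⟨x, hx⟩
  · exact Or.inr ⟨x, hx⟩

lemma coprod_disjoint (F : C ⥤ FintypeCat.{w}) [PreservesColimitsOfShape (Discrete WalkingPair) F]
    {A B P : C} {a : A ⟶ P} {b : B ⟶ P} (hc : IsColimit (BinaryCofan.mk a b)) (x : F.obj A)
    (y : F.obj B) : F.map a x ≠ F.map b y := by
  intro e
  let c' : BinaryCofan (F.obj A) (F.obj B) := BinaryCofan.mk (F.map a) (F.map b)
  let hc' : IsColimit c' := mapIsColimitOfPreservesOfIsColimit F a b hc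
  let T : BinaryCofan (F.obj A) (F.obj B) :=
    BinaryCofan.mk (P := FintypeCat.of (ULift.{w} Bool)) (FintypeCat.homMk fun _ ↦ ⟨true⟩)
      (FintypeCat.homMk fun _ ↦ ⟨false⟩)
  have e₁ := ConcreteCategory.congr_hom (hc'.fac T ⟨WalkingPair.left⟩) x
  have e₂ := ConcreteCategory.congr_hom (hc'.fac T ⟨WalkingPair.right⟩) y
  change hc'.desc T (F.map a x) = (⟨true⟩ : ULift Bool) at e₁
  change hc'.desc T (F.map b y) = (⟨false⟩ : ULift Bool) at e₂
  exact Bool.noConfusion (ULift.up.inj (e₁.symm.trans ((congrArg _ e).trans e₂)))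

lemma sigma_cases (F : C ⥤ FintypeCat.{w}) {ι : Type*} [Finite ι] [PreservesFiniteCoproducts F]
    (X : ι → C) [HasCoproduct X] (z : F.obj (∐ X)) :
    ∃ (i : ι) (x : F.obj (X i)), F.map (Sigma.ι X i) x = z := by
  obtain ⟨n, ⟨e⟩⟩ := Finite.exists_equiv_fin ι
  have : PreservesColimitsOfShape (Discrete ι) F :=
    preservesColimitsOfShape_of_equiv (Discrete.equivalence e.symm) F
  let c := F.mapCocone (colimit.cocone (Discrete.functor X))
  obtain ⟨⟨i⟩, x, hx⟩ := Concrete.isColimit_exists_rep _
    (isColimitOfPreserves F (colimit.isColimit (Discrete.functor X))) z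
  exact ⟨i, x, hx⟩

variable [GaloisCategory C] {F F' : C ⥤ FintypeCat.{w}} [FiberFunctor F]

lemma pointed_cofiltered : IsCofilteredOrEmpty (PointedGaloisObject F) where
  cone_objs := fun ⟨A, a, _⟩ ⟨B, b, _⟩ => by
    obtain ⟨Z, f, z, hgal, hfz⟩ := exists_hom_from_galois_of_fiber F (A ⨯ B)
      <| (fiberBinaryProductEquiv F A B).symm (a, b)
    refine ⟨⟨Z, z, hgal⟩, ⟨f ≫ prod.fst, ?_⟩, ⟨f ≫ prod.snd, ?_⟩, trivial⟩
    · simp only [F.map_comp, hfz, FintypeCat.comp_apply, fiberBinaryProductEquiv_symm_fst_apply]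
    · simp only [F.map_comp, hfz, FintypeCat.comp_apply, fiberBinaryProductEquiv_symm_snd_apply]
  cone_maps := fun ⟨A, a, _⟩ ⟨B, b, _⟩ ⟨f, hf⟩ ⟨g, hg⟩ => by
    obtain ⟨Z, h, z, hgal, hhz⟩ := exists_hom_from_galois_of_fiber F A a
    refine ⟨⟨Z, z, hgal⟩, ⟨h, hhz⟩, PointedGaloisObject.hom_ext ?_⟩
    apply evaluation_injective_of_isConnected F Z B z
    simp [hhz, hf, hg]

/-- Transport of the structure of a fibre functor along a natural isomorphism. -/
theorem fiberFunctor_ofIso (e : F ≅ F') : FiberFunctor F' where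
  preservesTerminalObjects := preservesLimitsOfShape_of_natIso e
  preservesPullbacks := preservesLimitsOfShape_of_natIso e
  preservesFiniteCoproducts := ⟨fun _ ↦ preservesColimitsOfShape_of_natIso e⟩
  preservesEpis := ⟨fun {X Y} f hf ↦ by
    rw [← NatIso.naturality_1 e f]
    have : Epi (F.map f) := F.map_epi f
    infer_instance⟩
  preservesQuotientsByFiniteGroups _ _ _ := preservesColimitsOfShape_of_natIso e
  reflectsIsos := reflectsIsomorphisms_of_iso e

variable [PreservesFiniteLimits F'] [PreservesFiniteCoproducts F']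

lemma nonempty_galois_of_nonempty
    (h : ∀ (A : C) [IsGalois A], Nonempty (F'.obj A)) :
    ∃ ξ : ∀ A : PointedGaloisObject F, F'.obj A.obj,
      ∀ {A B : PointedGaloisObject F} (f : A ⟶ B), F'.map f.val (ξ A) = ξ B := by
  have := pointed_cofiltered (F := F)
  let D := PointedGaloisObject.incl F ⋙ F' ⋙ FintypeCat.incl
  have : ∀ A, Finite (D.obj A) := fun A ↦ inferInstanceAs <| Finite (F'.obj A.obj)
  have : ∀ A, Nonempty (D.obj A) := fun A ↦ @h A.obj A.isGalois
  obtain ⟨ξ, hξ⟩ := nonempty_sections_of_finite_cofiltered_system D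
  exact ⟨ξ, fun f ↦ hξ f⟩

lemma eval_unique {ξ : ∀ A : PointedGaloisObject F, F'.obj A.obj}
    (hξ : ∀ {A B : PointedGaloisObject F} (f : A ⟶ B), F'.map f.val (ξ A) = ξ B)
    {A B : PointedGaloisObject F} {X : C} (f : A.obj ⟶ X) (g : B.obj ⟶ X)
    (h : F.map f A.pt = F.map g B.pt) : F'.map f (ξ A) = F'.map g (ξ B) := by
  obtain ⟨W, a, b, -⟩ := (pointed_cofiltered (F := F)).cone_objs A B
  have : IsConnected W.obj := W.isGalois.toIsConnected
  have hab : a.val ≫ f = b.val ≫ g := by
    apply evaluation_injective_of_isConnected F W.obj X W.pt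
    simp only [F.map_comp, FintypeCat.comp_apply]
    rw [a.comp, b.comp, h]
  rw [← hξ a, ← hξ b, ← FintypeCat.comp_apply, ← F'.map_comp, hab, F'.map_comp,
    FintypeCat.comp_apply]

/-- A left exact functor preserving finite coproducts which is nonempty on Galois objects is
isomorphic to any fibre functor. -/
theorem nonempty_iso_of_nonempty_galois (h : ∀ (A : C) [IsGalois A], Nonempty (F'.obj A)) :
    Nonempty (F' ≅ F) := by
  classical
  obtain ⟨ξ, hξ⟩ := nonempty_galois_of_nonempty (F := F) h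
  have key : ∀ X : C, ∀ p : F.obj X, ∃ (A : PointedGaloisObject F) (f : A.obj ⟶ X),
      F.map f A.pt = p := by
    intro X p
    obtain ⟨A, f, a, hA, hf⟩ := exists_hom_from_galois_of_fiber F X p
    exact ⟨⟨A, a, hA⟩, f, hf⟩
  choose A f hf using key
  let η₀ (X : C) (p : F.obj X) : F'.obj X := F'.map (f X p) (ξ (A X p))
  have η_eq : ∀ {X : C} (B : PointedGaloisObject F) (g : B.obj ⟶ X),
      η₀ X (F.map g B.pt) = F'.map g (ξ B) := fun {X} B g ↦ eval_unique hξ _ _ (hf X _)
  let η : F ⟶ F' :=
    { app := fun X ↦ FintypeCat.homMk (η₀ X)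
      naturality := fun X Y φ ↦ by
        ext p
        change η₀ Y (F.map φ p) = F'.map φ (η₀ X p)
        conv_lhs => rw [← hf X p, ← FintypeCat.comp_apply, ← F.map_comp, η_eq, F'.map_comp,
          FintypeCat.comp_apply] }
  have nat : ∀ {X Y : C} (φ : X ⟶ Y) (p : F.obj X), F'.map φ (η₀ X p) = η₀ Y (F.map φ p) :=
    fun φ p ↦ (ConcreteCategory.congr_hom (η.naturality φ) p).symm
  have bij : ∀ X, Function.Bijective (η₀ X) := by
    intro X
    refine ⟨fun p q hpq ↦ ?_, fun y ↦ ?_⟩
    · by_contra hne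
      obtain ⟨Z, i, ⟨hc⟩⟩ := monoInducesIsoOnDirectSummand (prod.lift (𝟙 X) (𝟙 X))
      obtain ⟨z, hz₁, hz₂⟩ := exists_prod_lift (F := F) p q
      rcases coprod_cases F hc z with ⟨w, hw⟩ | ⟨w, hw⟩
      · apply hne
        rw [← hz₁, ← hz₂, ← hw, map_map, map_map, prod.lift_fst, prod.lift_snd]
      · refine coprod_disjoint F' hc (η₀ X p) (η₀ Z w) ?_
        rw [nat i, hw]
        apply prod_ext
        · rw [nat, nat, map_map, prod.lift_fst, map_id_apply, nat, hz₁]
        · rw [nat, nat, map_map, prod.lift_snd, map_id_apply, nat, hz₂, hpq]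
    · obtain ⟨B, b, hB, hbij⟩ := exists_galois_representative F X
      let P : PointedGaloisObject F := ⟨B, b, hB⟩
      have : Finite (B ⟶ X) := inferInstance
      let s : ∐ (fun _ : B ⟶ X ↦ B) ⟶ B ⨯ X := Sigma.desc fun g ↦ prod.lift (𝟙 B) g
      have hs : IsIso (F.map s) := by
        rw [ConcreteCategory.isIso_iff_bijective]
        refine ⟨fun u₁ u₂ hu ↦ ?_, fun z ↦ ?_⟩
        · obtain ⟨g₁, a₁, rfl⟩ := sigma_cases F (fun _ : B ⟶ X ↦ B) u₁
          obtain ⟨g₂, a₂, rfl⟩ := sigma_cases F (fun _ : B ⟶ X ↦ B) u₂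
          rw [map_map, map_map, Sigma.ι_desc, Sigma.ι_desc] at hu
          have h1 := congrArg (F.map prod.fst) hu
          have h2 := congrArg (F.map prod.snd) hu
          rw [map_map, map_map, prod.lift_fst, prod.lift_fst, map_id_apply, map_id_apply] at h1
          rw [map_map, map_map, prod.lift_snd, prod.lift_snd] at h2
          subst h1
          have : IsConnected B := hB.toIsConnected
          obtain rfl := evaluation_injective_of_isConnected F B X a₁ h2
          rfl
        · have : IsConnected B := hB.toIsConnected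
          have : Fintype (B ⟶ X) := Fintype.ofFinite _
          have : Fintype (F.obj X) := Fintype.ofFinite _
          have hev := evaluation_injective_of_isConnected F B X (F.map prod.fst z)
          have hcard : Fintype.card (B ⟶ X) = Fintype.card (F.obj X) :=
            Fintype.card_of_bijective hbij
          obtain ⟨g, hg⟩ := ((Fintype.bijective_iff_injective_and_card _).mpr ⟨hev, hcard⟩).2
            (F.map prod.snd z)
          refine ⟨F.map (Sigma.ι (fun _ : B ⟶ X ↦ B) g) (F.map prod.fst z), ?_⟩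
          rw [map_map, Sigma.ι_desc]
          apply prod_ext
          · rw [map_map, prod.lift_fst, map_id_apply]
          · rw [map_map, prod.lift_snd]
            exact hg
      have : IsIso s := isIso_of_reflects_iso s F
      obtain ⟨z, hz₁, hz₂⟩ := exists_prod_lift (F := F') (ξ P) y
      obtain ⟨g, a, ha⟩ := sigma_cases F' (fun _ : B ⟶ X ↦ B) (F'.map (inv s) z)
      have ha' : F'.map (prod.lift (𝟙 B) g) a = z := by
        have := congrArg (F'.map s) ha
        rw [map_map, Sigma.ι_desc, map_map, IsIso.inv_hom_id, map_id_apply] at this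
        exact this
      refine ⟨F.map g b, ?_⟩
      rw [show b = P.pt from rfl, η_eq P g]
      have h1 := congrArg (F'.map prod.fst) ha'
      have h2 := congrArg (F'.map prod.snd) ha'
      rw [map_map, prod.lift_fst, map_id_apply, hz₁] at h1
      rw [map_map, prod.lift_snd, hz₂, h1] at h2
      exact h2
  have : ∀ X, IsIso (η.app X) := fun X ↦ (ConcreteCategory.isIso_iff_bijective _).mpr (bij X)
  have : IsIso η := NatIso.isIso_of_isIso_app η
  exact ⟨(asIso η).symm⟩

omit [PreservesFiniteCoproducts F'] in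
/-- Epimorphism-preserving variant. -/
lemma nonempty_of_preservesEpimorphisms [F'.PreservesEpimorphisms] (A : C) [IsConnected A] :
    Nonempty (F'.obj A) := by
  let F₀ := GaloisCategory.getFiberFunctor C
  have : Nonempty (F₀.obj A) := nonempty_fiber_of_isConnected F₀ A
  have hs : Function.Surjective (F₀.map (terminal.from A)) := fun t ↦ by
    have := subsingleton_of_isTerminal (F := F₀) (terminalIsTerminal (C := C))
    exact ⟨Classical.arbitrary _, Subsingleton.elim _ _⟩
  have he : Epi (F₀.map (terminal.from A)) := ConcreteCategory.epi_of_surjective _ hs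
  have : Epi (terminal.from A) := F₀.epi_of_epi_map he
  have : Epi (F'.map (terminal.from A)) := F'.map_epi _
  obtain ⟨t⟩ := nonempty_of_isTerminal (F := F') (terminalIsTerminal (C := C))
  obtain ⟨a, -⟩ := (ConcreteCategory.epi_iff_surjective_of_preservesPushout
    (F'.map (terminal.from A))).mp inferInstance t
  exact ⟨a⟩

/-- Functors preserving binary coproducts to finite sets preserve the empty coproduct. -/
lemma preservesFiniteCoproducts_of_binary (G : C ⥤ FintypeCat.{w})
    [PreservesColimitsOfShape (Discrete WalkingPair) G] : PreservesFiniteCoproducts G := by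
  have hI : IsEmpty (G.obj (⊥_ C)) := by
    refine ⟨fun x ↦ ?_⟩
    have hc : IsColimit (BinaryCofan.mk (𝟙 (⊥_ C)) (𝟙 (⊥_ C))) :=
      BinaryCofan.IsColimit.mk _ (fun a _ ↦ a) (fun a b ↦ Category.id_comp a)
        (fun a b ↦ (Category.id_comp a).trans (initialIsInitial.hom_ext a b))
        (fun a b m h₁ _ ↦ (Category.id_comp m).symm.trans h₁)
    exact coprod_disjoint G hc x x rfl
  have : PreservesColimit (Functor.empty.{0} C) G := by
    have : IsIso (initial.to (G.obj (⊥_ C))) := by
      rw [ConcreteCategory.isIso_iff_bijective]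
      exact ⟨fun a ↦ PEmpty.elim (initial.to (FintypeCat.of PEmpty.{w+1}) a), fun a ↦ (hI.false a).elim⟩
    exact preservesInitial_of_isIso G (initial.to (G.obj (⊥_ C)))
  have : PreservesColimitsOfShape (Discrete PEmpty.{1}) G :=
    preservesColimitsOfShape_pempty_of_preservesInitial G
  exact ⟨fun n ↦ PreservesFiniteCoproducts.of_preserves_binary_and_initial G (Fin n)⟩

end Groth.Agent.GalCat83
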