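import Mathlib.CategoryTheory.Galois.Topology
import Mathlib.GroupTheory.Index
import Mathlib.Topology.Algebra.OpenSubgroup

universe u v w

open CategoryTheory PreGaloisCategory

namespace Groth.Agent.GalCat83.AutTop

variable {C : Type u} [Category.{v} C] {F : C ⥤ FintypeCat.{w}}

lemma app_eq {σ τ : Aut F} {X : C} (h : ∀ x, σ.hom.app X x = τ.hom.app X x) :
    autEmbedding F σ X = autEmbedding F τ X :=
  Iso.ext (ConcreteCategory.hom_ext _ _ h)

lemma continuous_of_fibres {A : Type*} [TopologicalSpace A] (f : A → Aut F)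
    (h : ∀ (X : C) (a : A), ∀ᶠ b in nhds a, ∀ x, (f b).hom.app X x = (f a).hom.app X x) :
    Continuous f := by
  rw [(autEmbedding_isClosedEmbedding F).isInducing.continuous_iff, continuous_pi_iff]
  intro X
  rw [continuous_iff_continuousAt]
  intro a
  exact Filter.Tendsto.congr' ((h X a).mono fun b hb ↦ (app_eq hb).symm) tendsto_const_nhds

lemma denseRange_of {A : Type*} (f : A → Aut F)
    (h : ∀ (σ : Aut F) (I : Finset C), ∃ a, ∀ X ∈ I, ∀ x, (f a).hom.app X x = σ.hom.app X x) :
    DenseRange f := by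
  rw [DenseRange, dense_iff_inter_open]
  rintro U hU ⟨σ, hσ⟩
  obtain ⟨W, hW, rfl⟩ := isOpen_induced_iff.mp hU
  obtain ⟨I, O, hO, hsub⟩ := isOpen_pi_iff.mp hW _ hσ
  obtain ⟨a, ha⟩ := h σ I
  refine ⟨f a, hsub fun X hX ↦ ?_, a, rfl⟩
  rw [app_eq (ha X hX)]
  exact (hO X hX).2

lemma eventually_app_eq (σ : Aut F) (X : C) :
    ∀ᶠ τ in nhds σ, ∀ x, τ.hom.app X x = σ.hom.app X x := by
  have hc : Continuous fun τ : Aut F ↦ autEmbedding F τ X :=
    (continuous_apply X).comp (autEmbedding_isClosedEmbedding F).continuous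
  have : DiscreteTopology (Aut (F.obj X)) := aut_discreteTopology F X
  have ho : IsOpen {τ : Aut F | autEmbedding F τ X = autEmbedding F σ X} :=
    (isOpen_discrete {autEmbedding F σ X}).preimage hc
  exact Filter.mem_of_superset (ho.mem_nhds rfl) fun τ hτ x ↦
    congrArg (fun e : Aut (F.obj X) ↦ e.hom x) hτ

lemma continuous_app (X : C) {Q : Type*} [TopologicalSpace Q] (q : (F.obj X → F.obj X) → Q) :
    Continuous fun σ : Aut F ↦ q fun x ↦ σ.hom.app X x := by
  rw [continuous_iff_continuousAt]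
  intro σ
  exact Filter.Tendsto.congr'
    ((eventually_app_eq σ X).mono fun τ hτ ↦ congrArg q (funext fun x ↦ (hτ x).symm))
    tendsto_const_nhds

end Groth.Agent.GalCat83.AutTop
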