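import Groth.Agent.GalCat83.Whisker
import Mathlib.Topology.Algebra.ClopenNhdofOne

universe u v w

open CategoryTheory Limits PreGaloisCategory
open scoped FintypeCatDiscrete

namespace Groth.Agent.GalCat83

lemma subgroup_le_of_closed {G : Type*} [Group G] [TopologicalSpace G] [IsTopologicalGroup G]
    [CompactSpace G] [TotallyDisconnectedSpace G] {K L : Subgroup G} (hL : IsClosed (L : Set G))
    (h : ∀ V : OpenSubgroup G, L ≤ V.toSubgroup → K ≤ V.toSubgroup) : K ≤ L := by
  intro x hx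
  by_contra hxL
  have hopen : IsOpen ((L : Set G)ᶜ) := hL.isOpen_compl
  have hnhds : (fun g ↦ x * g) ⁻¹' (L : Set G)ᶜ ∈ nhds (1 : G) :=
    (hopen.preimage (continuous_const_mul x)).mem_nhds (by simpa using hxL)
  obtain ⟨W, hWop, hW1, hWsub⟩ := compact_exists_isClopen_in_isOpen
    (isOpen_interior (s := (fun g ↦ x * g) ⁻¹' (L : Set G)ᶜ)) (mem_interior_iff_mem_nhds.mpr hnhds)
  obtain ⟨N, hN⟩ := IsTopologicalGroup.exist_openNormalSubgroup_sub_clopen_nhds_of_one hWop hW1
  let V : OpenSubgroup G := ⟨L ⊔ N.toSubgroup,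
    Subgroup.isOpen_mono (le_sup_right : N.toSubgroup ≤ L ⊔ N.toSubgroup) N.toOpenSubgroup.isOpen'⟩
  have hxV : x ∈ L ⊔ N.toSubgroup := h V le_sup_left hx
  obtain ⟨l, hl, n, hn, hlnx⟩ := Subgroup.mem_sup_of_normal_right.mp hxV
  have hn' : n⁻¹ ∈ (fun g ↦ x * g) ⁻¹' (L : Set G)ᶜ :=
    interior_subset (hWsub (hN (N.toSubgroup.inv_mem hn)))
  apply hn'
  change x * n⁻¹ ∈ L
  have : l * n = x := hlnx
  rwa [← this, mul_inv_cancel_right]

section Sub

variable {C : Type u} [Category.{v} C] [GaloisCategory C]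
variable (F : C ⥤ FintypeCat.{w}) [FiberFunctor F]

lemma exists_obj_of_openSubgroup (V : OpenSubgroup (Aut F)) :
    ∃ (X : C) (x₀ : F.obj X), IsConnected X ∧ ∀ σ : Aut F, σ • x₀ = x₀ ↔ σ ∈ V := by
  have : Finite (Aut F ⧸ V.toSubgroup) := Subgroup.quotient_finite_of_isOpen _ V.isOpen'
  obtain ⟨X, e, he⟩ := exists_obj_of_action F (α := Aut F ⧸ V.toSubgroup) (fun a ↦ by
    obtain ⟨g, rfl⟩ := QuotientGroup.mk_surjective a
    have : (MulAction.stabilizer (Aut F) (g : Aut F ⧸ V.toSubgroup) : Set (Aut F)) =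
        (fun σ ↦ g⁻¹ * σ * g) ⁻¹' (V.toSubgroup : Set (Aut F)) := by
      ext σ
      rw [SetLike.mem_coe, MulAction.mem_stabilizer_iff, MulAction.Quotient.smul_coe, smul_eq_mul,
        eq_comm, QuotientGroup.eq, ← mul_assoc]
      rfl
    rw [this]
    exact V.isOpen'.preimage (by fun_prop))
  refine ⟨X, e.symm ((1 : Aut F) : Aut F ⧸ V.toSubgroup), ?_, fun σ ↦ ?_⟩
  · have : Nonempty (F.obj X) := ⟨e.symm ((1 : Aut F) : Aut F ⧸ V.toSubgroup)⟩
    have : MulAction.IsPretransitive (Aut F) (F.obj X) := ⟨fun a b ↦ by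
      obtain ⟨σ, hσ⟩ := MulAction.exists_smul_eq (Aut F) (e a) (e b)
      exact ⟨σ, e.injective ((he σ a).trans hσ)⟩⟩
    exact isConnected_of_pretransitive F X
  · rw [← e.apply_eq_iff_eq, he, Equiv.apply_symm_apply, MulAction.Quotient.smul_coe, smul_eq_mul,
      mul_one, eq_comm, QuotientGroup.eq, inv_one, one_mul]
    rfl

end Sub

variable {C C' C'' : Type u} [Category.{v} C] [Category.{v} C'] [Category.{v} C'']
  [GaloisCategory C] [GaloisCategory C'] [GaloisCategory C'']
variable (H : C ⥤ C') (H' : C' ⥤ C'') (F'' : C'' ⥤ FintypeCat.{w}) [FiberFunctor F'']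
  [FiberFunctor (H' ⋙ F'')] [FiberFunctor (H ⋙ (H' ⋙ F''))]

theorem comp_trivial_iff :
    (∀ σ : Aut F'', Pi1X.autWhisker H (H' ⋙ F'') (Pi1X.autWhisker H' F'' σ) = 1) ↔
      ∀ X : C, ∃ n : ℕ, Nonempty (H'.obj (H.obj X) ≅ ∐ fun _ : Fin n => ⊤_ C'') := by
  constructor
  · intro h X
    rw [← trivial_iff F'']
    intro σ y
    change Pi1X.autWhisker H (H' ⋙ F'') (Pi1X.autWhisker H' F'' σ) •
      (up H (H' ⋙ F'') (up H' F'' y)) = y
    rw [h σ, one_smul]
  · intro h σ
    apply Iso.ext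
    apply NatTrans.ext
    funext X
    ext y
    exact (trivial_iff F'' (H'.obj (H.obj X))).mpr (h X) σ y

lemma isClosed_range : IsClosed ((Pi1X.autWhisker H' F'').range : Set (Aut (H' ⋙ F''))) := by
  have := (isCompact_range (continuous_autWhisker H' F'')).isClosed
  convert this
  ext
  rfl

theorem ker_le_range_iff :
    (Pi1X.autWhisker H (H' ⋙ F'')).ker ≤ (Pi1X.autWhisker H' F'').range ↔
      ∀ (X' : C') (a' : (H' ⋙ F'').obj X'), IsConnected X' →
        (∃ s : ⊤_ C'' ⟶ H'.obj X', ∀ t : F''.obj (⊤_ C''), F''.map s t = a') →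
          ∃ (X : C) (Y' : C') (i : Y' ⟶ H.obj X) (_ : Y' ⟶ X'), Mono i ∧ IsConnected Y' := by
  constructor
  · intro h X' a' hX' hs
    exact (ker_le_stabilizer_iff H (H' ⋙ F'') X' a').mp
      (h.trans ((range_le_stabilizer_iff_exists_section H' F'' X' a').mpr hs))
  · intro h
    refine subgroup_le_of_closed (isClosed_range H' F'') fun V hV ↦ ?_
    obtain ⟨X', a', hX', ha'⟩ := exists_obj_of_openSubgroup (H' ⋙ F'') V
    have hs := (range_le_stabilizer_iff_exists_section H' F'' X' a').mp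
      fun σ hσ ↦ (ha' σ).mpr (hV hσ)
    exact fun σ hσ ↦ (ha' σ).mp
      ((ker_le_stabilizer_iff H (H' ⋙ F'') X' a').mpr (h X' a' hX' hs) hσ)

theorem exact_iff :
    (Function.Surjective (Pi1X.autWhisker H (H' ⋙ F'')) ∧
      (∀ σ : Aut F'', Pi1X.autWhisker H (H' ⋙ F'') (Pi1X.autWhisker H' F'' σ) = 1) ∧
      (Pi1X.autWhisker H (H' ⋙ F'')).ker =
        (Subgroup.normalClosure (Set.range (Pi1X.autWhisker H' F''))).topologicalClosure) ↔
    ((H.Full ∧ H.Faithful) ∧ ∀ X' : C', (∃ X : C, Nonempty (H.obj X ≅ X')) ↔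
      ∃ n : ℕ, Nonempty (H'.obj X' ≅ ∐ fun _ : Fin n => ⊤_ C'')) := by
  let F' := H' ⋙ F''
  let G := H ⋙ F'
  let W := Pi1X.autWhisker H F'
  let N := (Subgroup.normalClosure (Set.range (Pi1X.autWhisker H' F''))).topologicalClosure
  have hker : IsClosed (W.ker : Set (Aut F')) := by
    have : IsClosed (W ⁻¹' {(1 : Aut G)}) :=
      isClosed_singleton.preimage (continuous_autWhisker H F')
    convert this
    rfl
  constructor
  · rintro ⟨hs, hc, hk⟩
    refine ⟨(surjective_iff_full_faithful H F').mp hs, fun X' ↦ ⟨?_, ?_⟩⟩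
    · rintro ⟨X, ⟨i⟩⟩
      obtain ⟨n, ⟨j⟩⟩ := (comp_trivial_iff H H' F'').mp hc X
      exact ⟨n, ⟨(H'.mapIso i).symm ≪≫ j⟩⟩
    · intro hX'
      have htriv := (trivial_iff F'' (H'.obj X')).mpr hX'
      have hfix : ∀ τ ∈ W.ker, ∀ y : F'.obj X', τ • y = y := by
        intro τ hτ y
        have hle : N ≤ (MulAction.toPermHom (Aut F') (F'.obj X')).ker := by
          refine Subgroup.topologicalClosure_minimal _ (Subgroup.normalClosure_le_normal ?_) ?_
          · rintro _ ⟨σ, rfl⟩
            exact MonoidHom.mem_ker.mpr (Equiv.ext fun y ↦ htriv σ y)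
          · refine Subgroup.isClosed_of_isOpen _ ?_
            have : ((MulAction.toPermHom (Aut F') (F'.obj X')).ker : Set (Aut F')) =
                ⋂ y : F'.obj X', (MulAction.stabilizer (Aut F') y : Set (Aut F')) := by
              ext τ
              simp [MonoidHom.mem_ker, Equiv.ext_iff]
            rw [this]
            exact isOpen_iInter_of_finite fun y ↦ stabilizer_isOpen' F' y
        exact DFunLike.congr_fun (MonoidHom.mem_ker.mp (hle (hk.le hτ))) y
      choose sec hsec using hs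
      have heq : ∀ σ : Aut F', ∀ y : F'.obj X', sec (W σ) • y = σ • y := by
        intro σ y
        have := hfix (σ⁻¹ * sec (W σ)) (by
          rw [MonoidHom.mem_ker, map_mul, map_inv]
          exact inv_mul_eq_one.mpr (hsec (W σ)).symm) y
        rwa [mul_smul, inv_smul_eq_iff] at this
      have heq' : ∀ τ : Aut G, ∀ σ : Aut F', W σ = τ → ∀ y : F'.obj X', sec τ • y = σ • y :=
        fun τ σ h y ↦ h ▸ heq σ y
      let act : MulAction (Aut G) (F'.obj X') :=
        { smul := fun τ y ↦ sec τ • y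
          one_smul := fun y ↦ (heq' 1 1 (map_one _) y).trans (one_smul _ _)
          mul_smul := fun τ₁ τ₂ y ↦ (heq' (τ₁ * τ₂) (sec τ₁ * sec τ₂)
            ((map_mul _ _ _).trans (congrArg₂ (· * ·) (hsec τ₁) (hsec τ₂))) y).trans
            (mul_smul _ _ _) }
      have hq : Topology.IsQuotientMap W :=
        Topology.IsQuotientMap.of_surjective_continuous (fun τ ↦ ⟨sec τ, hsec τ⟩)
          (continuous_autWhisker H F')
      obtain ⟨X, e, he⟩ := exists_obj_of_action G (α := F'.obj X') fun y ↦ by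
        rw [← hq.isOpen_preimage]
        convert stabilizer_isOpen' F' y using 1
        ext σ
        change sec (W σ) • y = y ↔ σ • y = y
        rw [heq σ y]
      obtain ⟨f, hf⟩ := exists_map_of_equivariant F' (X := H.obj X) (Y := X')
        (fun x ↦ e x) fun σ x ↦ (he (W σ) x).trans (heq σ (e x))
      have : IsIso f := isIso_of_bijective F' f (by
        rw [show ⇑(ConcreteCategory.hom (F'.map f)) = fun x ↦ e x from funext hf]
        exact e.bijective)
      exact ⟨X, ⟨asIso f⟩⟩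
  · rintro ⟨hff, hX'⟩
    have hc := (comp_trivial_iff H H' F'').mpr fun X ↦ (hX' (H.obj X)).mp ⟨X, ⟨Iso.refl _⟩⟩
    refine ⟨(surjective_iff_full_faithful H F').mpr hff, hc, le_antisymm ?_ ?_⟩
    · refine subgroup_le_of_closed (Subgroup.isClosed_topologicalClosure _) fun V hV ↦ ?_
      obtain ⟨X', a', hconn, ha'⟩ := exists_obj_of_openSubgroup F' V
      have htriv : ∀ (σ : Aut F'') (y : F''.obj (H'.obj X')), σ • y = y := by
        intro σ y
        obtain ⟨τ, hτ⟩ := MulAction.exists_smul_eq (Aut F') a' (up H' F'' y)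
        have hmem : Pi1X.autWhisker H' F'' σ ∈
            Subgroup.normalClosure (Set.range (Pi1X.autWhisker H' F'')) :=
          Subgroup.subset_normalClosure ⟨σ, rfl⟩
        have h2 := (ha' _).mpr (hV (Subgroup.le_topologicalClosure _
          (Subgroup.normalClosure_normal.conj_mem _ hmem τ⁻¹)))
        rw [mul_smul, mul_smul, inv_inv, hτ, inv_smul_eq_iff, hτ] at h2
        exact h2
      obtain ⟨X, ⟨i⟩⟩ := (hX' X').mpr ((trivial_iff F'' _).mp htriv)
      intro σ hσ
      refine (ha' σ).mp ?_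
      have : σ • F'.map i.inv a' = F'.map i.inv a' := by
        change W σ • up H F' (F'.map i.inv a') = _
        rw [MonoidHom.mem_ker.mp hσ, one_smul]
      rw [← smul_natural] at this
      have := congrArg (F'.map i.hom) this
      rwa [map_map, map_map, i.inv_hom_id, map_id_apply, map_id_apply] at this
    · refine Subgroup.topologicalClosure_minimal _ (Subgroup.normalClosure_le_normal ?_) hker
      rintro _ ⟨σ, rfl⟩
      exact MonoidHom.mem_ker.mpr (hc σ)

end Groth.Agent.GalCat83
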