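import Groth.Agent.GalCat83.Compare
import Mathlib.CategoryTheory.Galois.IsFundamentalgroup
import Groth.Prelude.Def_Pi1X

universe u v w

open CategoryTheory Limits PreGaloisCategory
open scoped FintypeCatDiscrete

namespace Groth.Agent.GalCat83

section One

variable {C : Type u} [Category.{v} C] [GaloisCategory C]
variable (F : C ⥤ FintypeCat.{w}) [FiberFunctor F]

lemma smul_natural {X Y : C} (σ : Aut F) (f : X ⟶ Y) (x : F.obj X) :
    F.map f (σ • x) = σ • F.map f x :=
  (mulAction_naturality F σ f x).symm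

lemma exists_map_of_equivariant {X Y : C} (φ : F.obj X → F.obj Y)
    (h : ∀ (σ : Aut F) x, φ (σ • x) = σ • φ x) : ∃ f : X ⟶ Y, ∀ x, F.map f x = φ x := by
  let a : (functorToAction F).obj X ⟶ (functorToAction F).obj Y :=
    ⟨FintypeCat.homMk φ, fun σ ↦ by ext x; exact h σ x⟩
  obtain ⟨f, hf⟩ := (functorToAction F).map_surjective a
  refine ⟨f, fun x ↦ ?_⟩
  exact ConcreteCategory.congr_hom (congrArg Action.Hom.hom hf) x

lemma isIso_of_bijective {X Y : C} (f : X ⟶ Y) (h : Function.Bijective (F.map f)) : IsIso f := by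
  have : IsIso (F.map f) := (ConcreteCategory.isIso_iff_bijective _).mpr h
  exact isIso_of_reflects_iso f F

lemma epi_of_surjective {X Y : C} (f : X ⟶ Y) (h : Function.Surjective (F.map f)) : Epi f :=
  F.epi_of_epi_map (ConcreteCategory.epi_of_surjective _ h)

lemma injective_of_mono {X Y : C} (f : X ⟶ Y) [Mono f] : Function.Injective (F.map f) :=
  (ConcreteCategory.mono_iff_injective_of_preservesPullback (F.map f)).mp inferInstance

lemma isConnected_of_pretransitive (X : C) [Nonempty (F.obj X)]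
    [MulAction.IsPretransitive (Aut F) (F.obj X)] : IsConnected X where
  notInitial := not_initial_of_inhabited F (Classical.arbitrary _)
  noTrivialComponent Y i _ hY := by
    obtain ⟨y⟩ := (not_initial_iff_fiber_nonempty F Y).mp hY
    refine isIso_of_bijective F i ⟨injective_of_mono F i, fun x ↦ ?_⟩
    obtain ⟨σ, hσ⟩ := MulAction.exists_smul_eq (Aut F) (F.map i y) x
    exact ⟨σ • y, by rw [smul_natural, hσ]⟩

lemma stabilizer_isOpen' {X : C} (x : F.obj X) :
    IsOpen (MulAction.stabilizer (Aut F) x : Set (Aut F)) :=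
  haveI := continuousSMul_aut_fiber F X
  haveI : DiscreteTopology (F.obj X) := obj_discreteTopology F X
  stabilizer_isOpen (Aut F) x

lemma exists_obj_of_action {α : Type*} [Finite α] [MulAction (Aut F) α]
    (hst : ∀ a : α, IsOpen (MulAction.stabilizer (Aut F) a : Set (Aut F))) :
    ∃ (X : C) (e : F.obj X ≃ α), ∀ (σ : Aut F) x, e (σ • x) = σ • e x := by
  obtain ⟨n, ⟨en⟩⟩ := Finite.exists_equiv_fin α
  let V : FintypeCat.{w} := FintypeCat.of (ULift.{w} (Fin n))
  let ev : V ≃ α := Equiv.ulift.trans en.symm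
  let inst : MulAction (Aut F) V :=
    { smul := fun σ x ↦ ev.symm (σ • ev x)
      one_smul := fun x ↦ by change ev.symm ((1 : Aut F) • ev x) = x; simp
      mul_smul := fun σ τ x ↦ by
        change ev.symm ((σ * τ) • ev x) = ev.symm (σ • ev (ev.symm (τ • ev x)))
        simp [mul_smul] }
  let X₀ : Action FintypeCat.{w} (Aut F) := Action.FintypeCat.ofMulAction (Aut F) V
  have hcont : X₀.IsContinuous := by
    rw [Action.isContinuous_def]
    let : TopologicalSpace V := ⊥
    have : DiscreteTopology V := ⟨rfl⟩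
    have : ContinuousSMul (Aut F) V := by
      rw [continuousSMul_iff_stabilizer_isOpen]
      intro x
      convert hst (ev x) using 1
      ext σ
      change ev.symm (σ • ev x) = x ↔ σ • ev x = ev x
      rw [Equiv.symm_apply_eq]
    exact this.continuous_smul
  let Xc : ContAction FintypeCat.{w} (Aut F) := ⟨X₀, hcont⟩
  let X := (functorToContAction F).objPreimage Xc
  let i := (functorToContAction F).objObjPreimageIso Xc
  let j : (functorToAction F).obj X ≅ X₀ :=
    (ObjectProperty.ι _).mapIso i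
  let ej : F.obj X ≃ V := FintypeCat.equivEquivIso.symm ((Action.forget _ _).mapIso j)
  refine ⟨X, ej.trans ev, fun σ x ↦ ?_⟩
  have hc := ConcreteCategory.congr_hom (j.hom.comm σ) x
  change ev (ej (σ • x)) = σ • ev (ej x)
  have h2 : ej (σ • x) = ev.symm (σ • ev (ej x)) := hc
  rw [h2, Equiv.apply_symm_apply]

/-- An object has trivial monodromy iff it is a finite sum of copies of the final object. -/
lemma trivial_iff (Y : C) :
    (∀ (σ : Aut F) (y : F.obj Y), σ • y = y) ↔
      ∃ n : ℕ, Nonempty (Y ≅ ∐ fun _ : Fin n => ⊤_ C) := by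
  have hT : Subsingleton (F.obj (⊤_ C)) := subsingleton_of_isTerminal terminalIsTerminal
  obtain ⟨t⟩ := nonempty_of_isTerminal (F := F) (terminalIsTerminal (C := C))
  constructor
  · intro h
    obtain ⟨n, ⟨e⟩⟩ := Finite.exists_equiv_fin (F.obj Y)
    have hs : ∀ i, ∃ s : ⊤_ C ⟶ Y, ∀ x, F.map s x = e.symm i := fun i ↦
      exists_map_of_equivariant F (fun _ ↦ e.symm i) (fun σ _ ↦ (h σ _).symm)
    choose s hs using hs
    have : IsIso (Sigma.desc s) := by
      refine isIso_of_bijective F _ ⟨fun a b hab ↦ ?_, fun y ↦ ?_⟩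
      · obtain ⟨i, a', rfl⟩ := sigma_cases F (fun _ : Fin n ↦ ⊤_ C) a
        obtain ⟨j, b', rfl⟩ := sigma_cases F (fun _ : Fin n ↦ ⊤_ C) b
        rw [map_map, map_map, Sigma.ι_desc, Sigma.ι_desc, hs, hs] at hab
        obtain rfl := e.symm.injective hab
        rw [Subsingleton.elim a' b']
      · refine ⟨F.map (Sigma.ι (fun _ : Fin n ↦ ⊤_ C) (e y)) t, ?_⟩
        rw [map_map, Sigma.ι_desc, hs, Equiv.symm_apply_apply]
    exact ⟨n, ⟨(asIso (Sigma.desc s)).symm⟩⟩
  · rintro ⟨n, ⟨i⟩⟩ σ y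
    obtain ⟨j, a, ha⟩ := sigma_cases F (fun _ : Fin n ↦ ⊤_ C) (F.map i.hom y)
    have hfix : σ • F.map i.hom y = F.map i.hom y := by
      rw [← ha, ← smul_natural]
      exact congrArg _ (Subsingleton.elim _ _)
    rw [← smul_natural] at hfix
    have := congrArg (F.map i.inv) hfix
    rwa [map_map, map_map, i.hom_inv_id, map_id_apply, map_id_apply] at this

end One

section Whisker

variable {C C' : Type u} [Category.{v} C] [Category.{v} C'] [GaloisCategory C] [GaloisCategory C']
variable (H : C ⥤ C') (F' : C' ⥤ FintypeCat.{w}) [FiberFunctor F'] [FiberFunctor (H ⋙ F')]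

/-- View a point of the composite fibre as a point of the fibre. -/
abbrev dn {X : C} (x : (H ⋙ F').obj X) : F'.obj (H.obj X) := x

/-- View a point of the fibre as a point of the composite fibre. -/
abbrev up {X : C} (x : F'.obj (H.obj X)) : (H ⋙ F').obj X := x

omit [GaloisCategory C] [GaloisCategory C'] [FiberFunctor F'] [FiberFunctor (H ⋙ F')] in
lemma autWhisker_smul (σ : Aut F') {X : C} (x : (H ⋙ F').obj X) :
    Pi1X.autWhisker H F' σ • x = σ • dn H F' x := rfl

omit [GaloisCategory C] [GaloisCategory C'] [FiberFunctor F'] [FiberFunctor (H ⋙ F')] in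
lemma continuous_autWhisker : Continuous (Pi1X.autWhisker H F') := by
  rw [Topology.IsInducing.continuous_iff (autEmbedding_isClosedEmbedding _).isInducing,
    continuous_pi_iff]
  intro X
  exact (continuous_apply (H.obj X)).comp (autEmbedding_isClosedEmbedding F').continuous

lemma surjective_of_transitive
    (h : ∀ (X : C) [IsConnected X], ∀ a b : F'.obj (H.obj X), ∃ σ : Aut F', σ • a = b) :
    Function.Surjective (Pi1X.autWhisker H F') := by
  let acts : ∀ X : C, MulAction (Aut F') ((H ⋙ F').obj X) := fun X ↦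
    inferInstanceAs <| MulAction (Aut F') (F'.obj (H.obj X))
  have : IsNaturalSMul (H ⋙ F') (Aut F') := ⟨fun g X Y f x ↦ smul_natural F' g (H.map f) x⟩
  have : ∀ X : C, ContinuousSMul (Aut F') ((H ⋙ F').obj X) := fun X ↦
    continuousSMul_aut_fiber F' (H.obj X)
  have hs := toAut_surjective_of_isPretransitive (H ⋙ F') (G := Aut F') fun X hX ↦
    ⟨fun a b ↦ @h X hX.toIsConnected a b⟩
  intro t
  obtain ⟨g, hg⟩ := hs t
  refine ⟨g, ?_⟩
  rw [← hg]
  apply Iso.ext
  apply NatTrans.ext
  funext X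
  ext x
  rfl

lemma full_faithful_of_surjective (h : Function.Surjective (Pi1X.autWhisker H F')) :
    H.Full ∧ H.Faithful := by
  have hf : H.Faithful := Functor.Faithful.of_comp H F'
  refine ⟨⟨fun {X Y} g ↦ ?_⟩, hf⟩
  obtain ⟨f, hf'⟩ := exists_map_of_equivariant (H ⋙ F') (X := X) (Y := Y) (fun x ↦ F'.map g x)
    (fun τ x ↦ by
      obtain ⟨σ, rfl⟩ := h τ
      exact smul_natural F' σ g x)
  refine ⟨f, F'.map_injective ?_⟩
  ext x
  exact hf' x

lemma preservesConnected_of_surjective (h : Function.Surjective (Pi1X.autWhisker H F'))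
    (X : C) [IsConnected X] : IsConnected (H.obj X) := by
  have : Nonempty (F'.obj (H.obj X)) := nonempty_fiber_of_isConnected (H ⋙ F') X
  have : MulAction.IsPretransitive (Aut F') (F'.obj (H.obj X)) := by
    refine ⟨fun a b ↦ ?_⟩
    obtain ⟨τ, hτ⟩ := MulAction.exists_smul_eq (Aut (H ⋙ F'))
      (up H F' a) (up H F' b)
    obtain ⟨σ, rfl⟩ := h τ
    exact ⟨σ, hτ⟩
  exact isConnected_of_pretransitive F' _

lemma transitive_of_full [H.Full] (X : C) [IsConnected X] (a b : F'.obj (H.obj X)) :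
    ∃ σ : Aut F', σ • a = b := by
  classical
  let G := H ⋙ F'
  let two := (⊤_ C) ⨿ (⊤_ C)
  obtain ⟨t⟩ := nonempty_of_isTerminal (F := G) (terminalIsTerminal (C := C))
  have : Subsingleton (G.obj (⊤_ C)) := subsingleton_of_isTerminal terminalIsTerminal
  let p₁ : G.obj two := G.map coprod.inl t
  let p₂ : G.obj two := G.map coprod.inr t
  have hne : p₁ ≠ p₂ := coprod_disjoint G (coprodIsCoprod _ _) t t
  have hp₁ : ∀ σ : Aut F', σ • dn H F' p₁ = p₁ := fun σ ↦
    (smul_natural F' σ (H.map coprod.inl) t).symm.trans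
      (congrArg (G.map coprod.inl) (Subsingleton.elim _ _))
  have hp₂ : ∀ σ : Aut F', σ • dn H F' p₂ = p₂ := fun σ ↦
    (smul_natural F' σ (H.map coprod.inr) t).symm.trans
      (congrArg (G.map coprod.inr) (Subsingleton.elim _ _))
  let φ : F'.obj (H.obj X) → F'.obj (H.obj two) := fun y ↦
    if ∃ σ : Aut F', σ • a = y then p₁ else p₂
  obtain ⟨g, hg⟩ := exists_map_of_equivariant F' φ fun σ y ↦ by
    by_cases hy : ∃ τ : Aut F', τ • a = y
    · obtain ⟨τ, hτ⟩ := hy
      have h' : ∃ ρ : Aut F', ρ • a = σ • y := ⟨σ * τ, by rw [mul_smul, hτ]⟩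
      simp only [φ, if_pos h', if_pos (⟨τ, hτ⟩ : ∃ ρ : Aut F', ρ • a = y), hp₁]
    · have h' : ¬ ∃ ρ : Aut F', ρ • a = σ • y := fun ⟨ρ, hρ⟩ ↦
        hy ⟨σ⁻¹ * ρ, by rw [mul_smul, hρ, inv_smul_smul]⟩
      simp only [φ, if_neg h', if_neg hy, hp₂]
  obtain ⟨f, rfl⟩ := H.map_surjective g
  obtain ⟨τ, hτ⟩ := MulAction.exists_smul_eq (Aut G) (up H F' a) (up H F' b)
  by_contra hb
  apply hne
  have ha : G.map f (up H F' a) = p₁ :=
    (hg a).trans (if_pos ⟨1, one_smul _ _⟩)
  have hb' : G.map f (up H F' b) = p₂ := (hg b).trans (if_neg hb)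
  rw [← hb', ← hτ, smul_natural, ha]
  change p₁ = τ • G.map coprod.inl t
  rw [← smul_natural]
  exact congrArg _ (Subsingleton.elim _ _)

theorem surjective_iff_full_faithful :
    Function.Surjective (Pi1X.autWhisker H F') ↔ (H.Full ∧ H.Faithful) :=
  ⟨full_faithful_of_surjective H F', fun h ↦ surjective_of_transitive H F' fun X _ ↦
    haveI := h.1
    transitive_of_full H F' X⟩

include F' in
theorem full_faithful_iff_preservesConnected :
    (H.Full ∧ H.Faithful) ↔ ∀ X : C, IsConnected X → IsConnected (H.obj X) := by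
  refine ⟨fun h X hX ↦ preservesConnected_of_surjective H F'
    ((surjective_iff_full_faithful H F').mpr h) X, fun h ↦ ?_⟩
  refine full_faithful_of_surjective H F' (surjective_of_transitive H F' fun X hX a b ↦ ?_)
  have := h X hX
  exact MulAction.exists_smul_eq (Aut F') a b

theorem range_le_stabilizer_iff_exists_section (X : C) (a : (H ⋙ F').obj X) :
    (Pi1X.autWhisker H F').range ≤ MulAction.stabilizer (Aut (H ⋙ F')) a ↔
      ∃ s : ⊤_ C' ⟶ H.obj X, ∀ t : F'.obj (⊤_ C'), F'.map s t = a := by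
  constructor
  · intro h
    exact exists_map_of_equivariant F' (fun _ ↦ dn H F' a) fun σ _ ↦
      (show Pi1X.autWhisker H F' σ • a = a from h ⟨σ, rfl⟩).symm
  · rintro ⟨s, hs⟩ _ ⟨σ, rfl⟩
    obtain ⟨t⟩ := nonempty_of_isTerminal (F := F') (terminalIsTerminal (C := C'))
    change σ • dn H F' a = a
    rw [dn, ← hs t]
    exact (smul_natural F' σ s t).symm.trans ((hs _).trans (hs t).symm)

theorem normalClosure_range_le_stabilizer_iff (X : C) [IsConnected X] (a : (H ⋙ F').obj X) :
    Subgroup.normalClosure ((Pi1X.autWhisker H F').range : Set (Aut (H ⋙ F'))) ≤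
        MulAction.stabilizer (Aut (H ⋙ F')) a ↔
      ∃ n : ℕ, Nonempty (H.obj X ≅ ∐ fun _ : Fin n => ⊤_ C') := by
  rw [← trivial_iff F']
  constructor
  · intro h σ y
    obtain ⟨τ, hτ⟩ := MulAction.exists_smul_eq (Aut (H ⋙ F')) a (up H F' y)
    have h1 : Pi1X.autWhisker H F' σ ∈
        Subgroup.normalClosure ((Pi1X.autWhisker H F').range : Set (Aut (H ⋙ F'))) :=
      Subgroup.subset_normalClosure ⟨σ, rfl⟩
    have h2 := h (Subgroup.normalClosure_normal.conj_mem _ h1 τ⁻¹)
    rw [MulAction.mem_stabilizer_iff, mul_smul, mul_smul, inv_inv, hτ, inv_smul_eq_iff, hτ] at h2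
    exact h2
  · intro h
    let K : Subgroup (Aut (H ⋙ F')) :=
      (MulAction.toPermHom (Aut (H ⋙ F')) ((H ⋙ F').obj X)).ker
    have hK : K ≤ MulAction.stabilizer (Aut (H ⋙ F')) a := fun τ hτ ↦
      DFunLike.congr_fun (MonoidHom.mem_ker.mp hτ) a
    refine le_trans (Subgroup.normalClosure_le_normal ?_) hK
    rintro _ ⟨σ, rfl⟩
    exact MonoidHom.mem_ker.mpr (Equiv.ext fun y ↦ h σ y)

lemma ker_le_stabilizer_of_exists (X' : C') [IsConnected X'] (a' : F'.obj X') {X : C} {Y' : C'}
    (i : Y' ⟶ H.obj X) (q : Y' ⟶ X') [Mono i] [IsConnected Y'] :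
    (Pi1X.autWhisker H F').ker ≤ MulAction.stabilizer (Aut F') a' := by
  intro σ hσ
  obtain ⟨y, rfl⟩ := surjective_of_nonempty_fiber_of_isConnected F' q a'
  change σ • F'.map q y = F'.map q y
  rw [← smul_natural]
  apply congrArg
  apply injective_of_mono F' i
  rw [smul_natural]
  change Pi1X.autWhisker H F' σ • up H F' (F'.map i y) = _
  rw [MonoidHom.mem_ker.mp hσ, one_smul]

lemma exists_of_ker_le_stabilizer (X' : C') [IsConnected X'] (a' : F'.obj X')
    (h : (Pi1X.autWhisker H F').ker ≤ MulAction.stabilizer (Aut F') a') :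
    ∃ (X : C) (Y' : C') (i : Y' ⟶ H.obj X) (_ : Y' ⟶ X'), Mono i ∧ IsConnected Y' := by
  classical
  let G := H ⋙ F'
  let U := MulAction.stabilizer (Aut F') a'
  let Z : PointedGaloisObject G → Set (Aut F') := fun A ↦
    (Pi1X.autWhisker H F') ⁻¹' (MulAction.stabilizer (Aut G) A.pt : Set (Aut G))
  have hcl : ∀ A, IsClosed (Z A) := fun A ↦ (Subgroup.isClosed_of_isOpen _
    (stabilizer_isOpen' G A.pt)).preimage (continuous_autWhisker H F')
  have hcpt : IsCompact ((U : Set (Aut F'))ᶜ) :=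
    (stabilizer_isOpen' F' a').isClosed_compl.isCompact
  have hempty : (U : Set (Aut F'))ᶜ ∩ ⋂ A, Z A = ∅ := by
    refine Set.eq_empty_iff_forall_notMem.mpr fun σ ⟨hσ, hσA⟩ ↦ hσ (h ?_)
    rw [MonoidHom.mem_ker]
    apply Iso.ext
    apply natTrans_ext_of_isGalois G
    intro A hA
    ext x
    exact Set.mem_iInter.mp hσA ⟨A, x, hA⟩
  obtain ⟨s, hs⟩ := hcpt.elim_finite_subfamily_closed Z hcl hempty
  obtain ⟨t⟩ := nonempty_of_isTerminal (F := G) (terminalIsTerminal (C := C))
  obtain ⟨T, _, T₀, hT, -⟩ := exists_hom_from_galois_of_fiber G (⊤_ C) t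
  have hc := pointed_cofiltered (F := G)
  have : Nonempty (PointedGaloisObject G) := ⟨⟨T, T₀, hT⟩⟩
  have : IsCofiltered (PointedGaloisObject G) := { hc with }
  obtain ⟨A, hA⟩ := IsCofiltered.inf_objs_exists s
  have hAU : ∀ σ : Aut F', σ • dn H F' A.pt = A.pt → σ • a' = a' := by
    intro σ hσ
    by_contra hne
    refine Set.eq_empty_iff_forall_notMem.mp hs σ ⟨hne, Set.mem_iInter₂.mpr fun B hB ↦ ?_⟩
    obtain ⟨f⟩ := hA hB
    change σ • dn H F' B.pt = B.pt
    rw [← f.comp]
    exact (smul_natural F' σ (H.map f.val) A.pt).symm.trans (congrArg (F'.map (H.map f.val)) hσ)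
  obtain ⟨Y', i, y, hy, hconn, hmono⟩ :=
    fiber_in_connected_component F' (H.obj A.obj) (dn H F' A.pt)
  let φ : F'.obj Y' → F'.obj X' := fun z ↦
    (MulAction.exists_smul_eq (Aut F') y z).choose • a'
  obtain ⟨q, -⟩ := exists_map_of_equivariant F' φ fun σ z ↦ by
    set τ := (MulAction.exists_smul_eq (Aut F') y (σ • z)).choose
    set τ' := (MulAction.exists_smul_eq (Aut F') y z).choose
    have h1 : τ • y = σ • z := (MulAction.exists_smul_eq (Aut F') y (σ • z)).choose_spec
    have h2 : τ' • y = z := (MulAction.exists_smul_eq (Aut F') y z).choose_spec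
    have : ((σ * τ')⁻¹ * τ) • a' = a' := hAU _ (by
      rw [← hy, ← smul_natural, mul_smul, h1,
        show (σ * τ')⁻¹ • σ • z = y by rw [inv_smul_eq_iff, mul_smul, h2]]
      exact hy)
    change τ • a' = σ • τ' • a'
    conv_rhs => rw [← mul_smul, ← this, ← mul_smul, mul_inv_cancel_left]
  exact ⟨A.obj, Y', i, q, hmono, hconn⟩

theorem ker_le_stabilizer_iff (X' : C') [IsConnected X'] (a' : F'.obj X') :
    (Pi1X.autWhisker H F').ker ≤ MulAction.stabilizer (Aut F') a' ↔
      ∃ (X : C) (Y' : C') (i : Y' ⟶ H.obj X) (_ : Y' ⟶ X'), Mono i ∧ IsConnected Y' :=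
  ⟨exists_of_ker_le_stabilizer H F' X' a', fun ⟨_, _, i, q, _, _⟩ ↦
    ker_le_stabilizer_of_exists H F' X' a' i q⟩

theorem injective_iff :
    Function.Injective (Pi1X.autWhisker H F') ↔
      ∀ X' : C', IsConnected X' →
        ∃ (X : C) (Y' : C') (p : Y' ⟶ X') (q : Y' ⟶ H.obj X), Epi p ∧ Mono q := by
  constructor
  · intro h X' hX'
    obtain ⟨a'⟩ := nonempty_fiber_of_isConnected F' X'
    obtain ⟨X, Y', i, q, hi, hY'⟩ := exists_of_ker_le_stabilizer H F' X' a'
      ((MonoidHom.ker_eq_bot_iff _).mpr h ▸ bot_le)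
    exact ⟨X, Y', q, i, epi_of_surjective F' q
      (surjective_of_nonempty_fiber_of_isConnected F' q), hi⟩
  · intro h
    rw [← MonoidHom.ker_eq_bot_iff, eq_bot_iff]
    intro σ hσ
    apply Iso.ext
    apply natTrans_ext_of_isGalois F'
    intro X' hX'
    obtain ⟨X, Y', p, q, _, _⟩ := h X' hX'.toIsConnected
    ext x
    obtain ⟨y, rfl⟩ := surjective_on_fiber_of_epi F' p x
    change σ • F'.map p y = F'.map p y
    rw [← smul_natural]
    apply congrArg
    apply injective_of_mono F' q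
    rw [smul_natural]
    change Pi1X.autWhisker H F' σ • up H F' (F'.map q y) = _
    rw [MonoidHom.mem_ker.mp hσ, one_smul]

end Whisker

end Groth.Agent.GalCat83
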